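import Cfsg.Agent.H967.K4.Final
import Cfsg.Agent.H174.K547.RankOne
import Cfsg.Agent.H151.K547.D3Rows

/-!
# S4547: the base rows of the groups of Lie type of characteristic two (helper151, helper174; `Good5` by TEAM K4)
-/

set_option autoImplicit false

open Cfsg

namespace Cfsg.Agent.H151.K547

open Cfsg.Agent.H821.K547 Cfsg.Agent.Omega.ML.Ex.Typ

universe u

/-- **`D3` for the groups of Lie type of characteristic two.** -/
theorem D3_lie_two {S : Type u} [Group S] [Finite S] (hS : IsLieTypeChar 2 S) :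
    D3 S ∨
      (∃ (F : Type) (_ : Field F) (_ : Fintype F), Fintype.card F = 4 ∧
        Nonempty (S ≃* Matrix.ProjectiveSpecialLinearGroup (Fin 2) F)) ∨
      ∃ (F : Type) (_ : Field F) (_ : Fintype F), Fintype.card F = 2 ∧
        Nonempty (S ≃* Matrix.ProjectiveSpecialLinearGroup (Fin 3) F) := by
  have : Fact (Nat.Prime 2) := ⟨Nat.prime_two⟩
  rcases hS with h | h | h | h | h | h | h | h | ⟨-, h⟩ | ⟨-, h⟩ | ⟨h, -⟩
  · obtain ⟨F, _, _, _, n, hn, hn4, ⟨e⟩⟩ := h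
    rcases Nat.lt_or_ge n 4 with h4 | h4
    · obtain rfl | rfl : n = 2 ∨ n = 3 := by omega
      · rcases H967.K4.card_cases F with h2 | h2 | h2
        · exact absurd (hn4 rfl) (by omega)
        · exact Or.inr (Or.inl ⟨F, inferInstance, inferInstance, h2, ⟨e⟩⟩)
        · exact Or.inl (D3_congr e (H174.K547.D3_psl2 h2))
      · rcases H967.K4.card_cases F with h2 | h2 | h2
        · exact Or.inr (Or.inr ⟨F, inferInstance, inferInstance, h2, ⟨e⟩⟩)
        · exact Or.inl (D3_congr e (D3_psl3 (by rw [Nat.card_eq_fintype_card]; omega)))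
        · exact Or.inl (D3_congr e (D3_psl3 (by rw [Nat.card_eq_fintype_card]; omega)))
    · obtain ⟨m, rfl⟩ : ∃ m, n = m + 1 := ⟨n - 1, by omega⟩
      exact Or.inl (D3_of_rgdt (by omega) ((typ_PSL m).of_equiv e.symm))
  · obtain ⟨F, _, _, _, m, hm, h3, ⟨e⟩⟩ := h
    rcases Nat.lt_or_ge m 3 with h4 | h4
    · obtain rfl : m = 2 := by omega
      rcases H967.K4.card_cases F with h2 | h2 | h2
      · exact absurd (h3 rfl) (by omega)
      · exact Or.inl (D3_congr e (D3_psp4 (by rw [Nat.card_eq_fintype_card]; omega)))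
      · exact Or.inl (D3_congr e (D3_psp4 (by rw [Nat.card_eq_fintype_card]; omega)))
    · exact Or.inl (D3_of_rgdt h4 ((typ_PSp (by omega)).of_equiv e.symm))
  · obtain ⟨F, _, _, _, n, q, hF, hn, h32, ⟨e⟩⟩ := h
    rcases Nat.lt_or_ge n 6 with h8 | h8
    · obtain rfl | h45 : n = 3 ∨ (n = 4 ∨ n = 5) := by omega
      · exact Or.inl (D3_congr e (H174.K547.D3_psu3 hF fun h2 => h32 ⟨rfl, h2⟩))
      · exact Or.inl (D3_congr e (D3_psu hF h45))
    · obtain ⟨m, hm, hR⟩ := typ_PSU (p := 2) hF hn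
      exact Or.inl (D3_of_rgdt (by omega) (hR.of_equiv e.symm))
  · obtain ⟨F, _, _, _, m, hm, ho, ⟨e⟩⟩ := h
    exfalso
    have h1 : (2 : ℕ) ∣ Fintype.card F := by
      obtain ⟨k, hk, hk2⟩ := FiniteField.card F 2
      rw [hk2]
      exact dvd_pow_self _ k.ne_zero
    exact (Nat.not_even_iff_odd.2 ho) (even_iff_two_dvd.2 h1)
  · obtain ⟨F, _, _, _, m, hm, ⟨e⟩⟩ := h
    obtain ⟨n, rfl⟩ : ∃ n, m = n + 3 := ⟨m - 3, by omega⟩
    exact Or.inl (D3_of_rgdt (by omega) ((typ_PO_plus n).of_equiv e.symm))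
  · obtain ⟨F, _, _, _, m, a, b, hm, hab, ⟨e⟩⟩ := h
    exact Or.inl (D3_of_rgdt (by omega) ((typ_PO_minus hab (by omega)).of_equiv e.symm))
  · obtain ⟨F, _, _, _, h⟩ := h
    rcases h with ⟨h3, ⟨e⟩⟩ | ⟨⟨e⟩⟩ | ⟨⟨e⟩⟩ | ⟨⟨e⟩⟩ | ⟨⟨e⟩⟩
    · rcases H967.K4.card_cases F with h2 | h2 | h2
      · omega
      · exact Or.inl (D3_congr e (D3_G2 F (by omega)))
      · exact Or.inl (D3_congr e (D3_G2 F (by omega)))
    · exact Or.inl (D3_of_rgdt (M := CoxeterMatrix.F₄) (by norm_num)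
        ((typ_group (by simp [Nodes.RGDChev.IsType, Nodes.RGDChev.typeList]) F 2).of_equiv e.symm))
    · exact Or.inl (D3_of_rgdt (M := CoxeterMatrix.E₆) (by norm_num)
        ((typ_group (by simp [Nodes.RGDChev.IsType, Nodes.RGDChev.typeList]) F 2).of_equiv e.symm))
    · exact Or.inl (D3_of_rgdt (M := CoxeterMatrix.E₇) (by norm_num)
        ((typ_group (by simp [Nodes.RGDChev.IsType, Nodes.RGDChev.typeList]) F 2).of_equiv e.symm))
    · exact Or.inl (D3_of_rgdt (M := CoxeterMatrix.E₈) (by norm_num)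
        ((typ_group (by simp [Nodes.RGDChev.IsType, Nodes.RGDChev.typeList]) F 2).of_equiv e.symm))
  · obtain ⟨K, _, _, _, q, hq, ⟨hK, ⟨e⟩⟩ | ⟨hK, ⟨e⟩⟩⟩ := h
    · exact Or.inl (D3_of_rgdt (by norm_num) ((typ_twE6 hq hK 2).of_equiv e.symm))
    · exact Or.inl (D3_congr e (D3_tD4 K q hq hK))
  · exact Or.inl (H174.K547.D3_sz h)
  · exact Or.inl (D3_tF4 h)
  · exact absurd h (by decide)

/-- **The base rows of the groups of Lie type of characteristic two.** -/
theorem base_lie_two {S : Type u} [Group S] [Finite S] [IsSimpleGroup S] (hS : IsLieTypeChar 2 S) : BaseRow S := by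
  rcases D3_lie_two hS with h | ⟨F, _, _, hF, ⟨e⟩⟩ | ⟨F, _, _, hF, ⟨e⟩⟩
  · rcases H967.K4.good_lie_two hS with h' | ⟨F, _, _, _, hF, ⟨e⟩⟩ | ⟨F, _, _, _, hF, ⟨e⟩⟩
    · exact Or.inl ⟨h', h⟩
    · exact Or.inr (H174.K547.XCond.congr e (H174.K547.xcond_psl24 hF))
    · exact Or.inr (H174.K547.XCond.congr e (H174.K547.xcond_psl32 hF))
  · exact Or.inr (H174.K547.XCond.congr e (H174.K547.xcond_psl24 hF))
  · exact Or.inr (H174.K547.XCond.congr e (H174.K547.xcond_psl32 hF))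

end Cfsg.Agent.H151.K547
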