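import Cfsg.Agent.H641.Sd.Psi
import Cfsg.Agent.H967.K4.Lie
import Cfsg.Agent.H821.K547.Defs

/-!
# S4547: the Sylow 2-subgroups of the groups of Lie type of characteristic two need three generators (helper151)

* `Rk.of_surj`, `Rk.mono`, `rk_of_elem` : elementary abelian quotients;
* `rk_two`, `rk_three` : `U` maps onto the products of the simple root groups;
* `D3.of_U` : `D3 Y` from `Rk 3 U`.
-/

set_option autoImplicit false
set_option linter.unusedSectionVars false

open Cfsg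

namespace Cfsg.Agent.H151.K547

open Cfsg.Agent.H821.K547

section abs

universe u v

variable {P : Type u} {Q : Type v} [Group P] [Group Q]

theorem rk_of_surj {n : ℕ} (f : P →* Q) (hf : Function.Surjective f) (h : Rk n Q) : Rk n P := by
  obtain ⟨g, hg⟩ := h
  exact ⟨g.comp f, hg.comp hf⟩

theorem rk_congr {n : ℕ} (e : P ≃* Q) (h : Rk n Q) : Rk n P := rk_of_surj e.toMonoidHom e.surjective h

/-- the projection `Fin m → ZMod 2` of the first coordinates -/
def cutHom {m n : ℕ} (hmn : m ≤ n) : Multiplicative (Fin n → ZMod 2) →* Multiplicative (Fin m → ZMod 2) where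
  toFun x := Multiplicative.ofAdd fun i => Multiplicative.toAdd x (Fin.castLE hmn i)
  map_one' := rfl
  map_mul' _ _ := rfl

theorem cutHom_surj {m n : ℕ} (hmn : m ≤ n) : Function.Surjective (cutHom hmn) := by
  intro y
  refine ⟨Multiplicative.ofAdd fun i => if h : (i : ℕ) < m then Multiplicative.toAdd y ⟨i, h⟩ else 0, ?_⟩
  apply Multiplicative.toAdd.injective
  funext i
  change (if h : ((Fin.castLE hmn i : Fin n) : ℕ) < m then Multiplicative.toAdd y ⟨_, h⟩ else 0) = _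
  rw [dif_pos (by simp)]
  rfl

theorem rk_mono {m n : ℕ} (hmn : m ≤ n) (h : Rk n P) : Rk m P := by
  obtain ⟨g, hg⟩ := h
  exact ⟨(cutHom hmn).comp g, (cutHom_surj hmn).comp hg⟩

/-- an elementary abelian 2-group of order at least `2 ^ m` -/
theorem rk_of_elem [Finite P] {m : ℕ} (hc : ∀ x y : P, x * y = y * x) (hs : ∀ x : P, x * x = 1)
    (hm : 2 ^ m ≤ Nat.card P) : Rk m P := by
  let _ : CommGroup P := { ‹Group P› with mul_comm := hc }
  let _ : Module (ZMod 2) (Additive P) := AddCommGroup.zmodModule (n := 2) (by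
    intro x
    rw [two_nsmul]
    exact hs (Additive.toMul x))
  have : Module.Finite (ZMod 2) (Additive P) := Module.Finite.of_finite
  set d := Module.finrank (ZMod 2) (Additive P) with hd
  have hcard : Nat.card P = 2 ^ d := by
    have h1 := Module.natCard_eq_pow_finrank (K := ZMod 2) (V := Additive P)
    rw [Nat.card_zmod] at h1
    exact h1
  have hmd : m ≤ d := by
    rw [hcard] at hm
    exact (Nat.pow_le_pow_iff_right (by norm_num)).1 hm
  refine rk_mono hmd ?_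
  let e := (Module.finBasis (ZMod 2) (Additive P)).equivFun
  let f : P →* Multiplicative (Fin d → ZMod 2) :=
    { toFun := fun x => Multiplicative.ofAdd (e (Additive.ofMul x))
      map_one' := by
        apply Multiplicative.toAdd.injective
        exact map_zero e
      map_mul' := by
        intro x y
        apply Multiplicative.toAdd.injective
        exact map_add e (Additive.ofMul x) (Additive.ofMul y) }
  refine ⟨f, fun y => ?_⟩
  obtain ⟨x, hx⟩ := e.surjective (Multiplicative.toAdd y)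
  exact ⟨Additive.toMul x, by
    apply Multiplicative.toAdd.injective
    exact hx⟩

theorem rk_zero : Rk 0 P := ⟨1, fun _ => ⟨1, Subsingleton.elim _ _⟩⟩

/-- a nontrivial finite 2-group -/
theorem rk_one [Finite P] (h : IsPGroup 2 P) (hn : Nontrivial P) : Rk 1 P := by
  have : Fact (Nat.Prime 2) := ⟨Nat.prime_two⟩
  obtain ⟨N, hN, hi⟩ : ∃ N : Subgroup P, N.Normal ∧ N.index = 2 := by
    obtain ⟨k, hk⟩ := IsPGroup.iff_card.1 h
    have hk0 : k ≠ 0 := by
      rintro rfl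
      rw [pow_zero, Nat.card_eq_one_iff_unique] at hk
      exact not_subsingleton P hk.1
    obtain ⟨j, rfl⟩ : ∃ j, k = j + 1 := ⟨k - 1, by omega⟩
    obtain ⟨N, hN⟩ := Sylow.exists_subgroup_card_pow_prime (G := P) 2 (n := j) (by
      rw [hk]
      exact pow_dvd_pow 2 (by omega))
    have hi : N.index = 2 := by
      have h1 := N.card_mul_index
      rw [hN, hk, pow_succ] at h1
      exact Nat.eq_of_mul_eq_mul_left (by positivity) h1
    exact ⟨N, Subgroup.normal_of_index_eq_two hi, hi⟩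
  refine rk_of_surj (QuotientGroup.mk' N) (QuotientGroup.mk'_surjective N) ?_
  have hc : Nat.card (P ⧸ N) = 2 := hi
  have hsq : ∀ x : P ⧸ N, x * x = 1 := by
    intro x
    have := pow_card_eq_one' (G := P ⧸ N) (x := x)
    rwa [hc, pow_two] at this
  refine rk_of_elem (fun x y => ?_) hsq (by rw [hc, pow_one])
  have e1 : x⁻¹ = x := inv_eq_of_mul_eq_one_left (hsq x)
  have e2 : y⁻¹ = y := inv_eq_of_mul_eq_one_left (hsq y)
  have e3 : (x * y)⁻¹ = x * y := inv_eq_of_mul_eq_one_left (hsq (x * y))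
  rw [← e3, mul_inv_rev, e1, e2]

/-- products -/
theorem rk_add {m n : ℕ} {R : Type*} [Group R] (f : R →* P) (g : R →* Q) (hfg : ∀ a b, ∃ r, f r = a ∧ g r = b)
    (hP : Rk m P) (hQ : Rk n Q) : Rk (m + n) R := by
  obtain ⟨φ, hφ⟩ := hP
  obtain ⟨ψ, hψ⟩ := hQ
  let F : R →* Multiplicative (Fin (m + n) → ZMod 2) := MonoidHom.mk'
    (fun x => Multiplicative.ofAdd (Fin.append (Multiplicative.toAdd (φ (f x))) (Multiplicative.toAdd (ψ (g x)))))
    (by
      intro x y
      apply Multiplicative.toAdd.injective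
      change Fin.append (Multiplicative.toAdd (φ (f (x * y)))) (Multiplicative.toAdd (ψ (g (x * y)))) =
        Fin.append (Multiplicative.toAdd (φ (f x))) (Multiplicative.toAdd (ψ (g x))) +
        Fin.append (Multiplicative.toAdd (φ (f y))) (Multiplicative.toAdd (ψ (g y)))
      have e1 : φ (f (x * y)) = φ (f x) * φ (f y) := by rw [map_mul, map_mul]
      have e2 : ψ (g (x * y)) = ψ (g x) * ψ (g y) := by rw [map_mul, map_mul]
      rw [e1, e2]
      funext i
      refine Fin.addCases (fun j => ?_) (fun j => ?_) i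
      · rw [Pi.add_apply, Fin.append_left, Fin.append_left, Fin.append_left]
        rfl
      · rw [Pi.add_apply, Fin.append_right, Fin.append_right, Fin.append_right]
        rfl)
  refine ⟨F, fun y => ?_⟩
  obtain ⟨a, ha⟩ := hφ (Multiplicative.ofAdd fun i => Multiplicative.toAdd y (Fin.castAdd n i))
  obtain ⟨b, hb⟩ := hψ (Multiplicative.ofAdd fun i => Multiplicative.toAdd y (Fin.natAdd m i))
  obtain ⟨r, h1, h2⟩ := hfg a b
  refine ⟨r, ?_⟩
  apply Multiplicative.toAdd.injective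
  change Fin.append (Multiplicative.toAdd (φ (f r))) (Multiplicative.toAdd (ψ (g r))) = Multiplicative.toAdd y
  rw [h1, h2, ha, hb]
  funext i
  refine Fin.addCases (fun j => ?_) (fun j => ?_) i
  · rw [Fin.append_left]
    rfl
  · rw [Fin.append_right]
    rfl

/-- `D3` from a subgroup of odd index which is a 2-group -/
theorem D3_of_subgroup [Finite P] {U : Subgroup P} (hU : IsPGroup 2 U) (hi : ¬ 2 ∣ U.index) (h : Rk 3 U) : D3 P := by
  have : Fact (Nat.Prime 2) := ⟨Nat.prime_two⟩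
  intro Q
  let S : Sylow 2 P := hU.toSylow hi
  have hS : (S : Subgroup P) = U := rfl
  exact rk_congr (Sylow.equiv Q S) h

theorem D3_congr {P : Type u} {Q : Type v} [Group P] [Finite P] [Group Q] (e : P ≃* Q) (h : D3 Q) : D3 P := by
  intro S
  have h1 := h (S.mapSurjective (f := e.toMonoidHom) e.surjective)
  refine rk_congr ?_ h1
  exact (S : Subgroup P).equivMapOfInjective e.toMonoidHom e.injective

end abs

open CoxeterSystem Cfsg.Agent.ChevalleyStructure.CoxeterGeom Cfsg.Agent.Tits.Roots Cfsg.Agent.Tits.Core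
  Cfsg.Agent.Tits.Exchange Cfsg.Agent.Nodes.Reps Cfsg.Agent.Nodes.BNOf Cfsg.Agent.Nodes.StabComb
  Cfsg.Agent.Nodes.Bruhat Cfsg.Agent.Nodes.OppDec Cfsg.Agent.Nodes.LeviDec Cfsg.Agent.Nodes.BNOf.RGD

section rgd

variable {I W Y : Type*} [Fintype I] [DecidableEq I] [Group W] [Group Y] {M : CoxeterMatrix I}
  {cs : CoxeterSystem M W} {A : I → I → ℤ} {h : IsCartan M A} {T : Subgroup Y} {n : I → Y}
  {X : (I → ℤ) → Subgroup Y} (R : RGD cs h 2 T n X)

include R

theorem retr_pair [Finite W] {i j : I} (hij : i ≠ j) (a : ↥(X (sr i))) (b : ↥(X (sr j))) :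
    ∃ u, H641.Sd.retr R i u = a ∧ H641.Sd.retr R j u = b := by
  have hi := H641.Sd.sr_mem_Pos R i
  have hj := H641.Sd.sr_mem_Pos R j
  have hne : (sr i : I → ℤ) ≠ sr j := fun e => hij (Cfsg.Agent.Nodes.sr_injective e)
  refine ⟨⟨a, RGD.le_Sup hi a.2⟩ * ⟨b, RGD.le_Sup hj b.2⟩, ?_, ?_⟩
  · rw [map_mul, H641.Sd.retr_self R (u := ⟨a, RGD.le_Sup hi a.2⟩) a.2,
      H641.Sd.retr_ne R hj hne.symm (u := ⟨b, RGD.le_Sup hj b.2⟩) b.2, mul_one]
  · rw [map_mul, H641.Sd.retr_ne R hi hne (u := ⟨a, RGD.le_Sup hi a.2⟩) a.2,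
      H641.Sd.retr_self R (u := ⟨b, RGD.le_Sup hj b.2⟩) b.2, one_mul]

theorem rk_node [Finite W] {i : I} {m : ℕ} (hi : Rk m (X (sr i))) : Rk m (RGD.Sup X (RGD.Pos cs h)) := by
  refine rk_of_surj (H641.Sd.retr R i) (fun a => ?_) hi
  exact ⟨⟨a, RGD.le_Sup (H641.Sd.sr_mem_Pos R i) a.2⟩, H641.Sd.retr_self R a.2⟩

theorem rk_two [Finite W] {i j : I} (hij : i ≠ j) {a b : ℕ} (hi : Rk a (X (sr i))) (hj : Rk b (X (sr j))) :
    Rk (a + b) (RGD.Sup X (RGD.Pos cs h)) :=
  rk_add (H641.Sd.retr R i) (H641.Sd.retr R j) (retr_pair R hij) hi hj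

theorem rk_X [Finite Y] [Finite W] (i : I) : Rk 1 (X (sr i)) := by
  refine rk_one (R.pgrp i) ?_
  rw [Subgroup.nontrivial_iff_ne_bot]
  exact Cfsg.Agent.Nodes.Bruhat.X_ne_bot R (isRoot_sr cs h i)

theorem rk_three [Finite Y] [Finite W] {i j k : I} (hij : i ≠ j) (hik : i ≠ k) (hjk : j ≠ k) :
    Rk 3 (RGD.Sup X (RGD.Pos cs h)) := by
  have hi := H641.Sd.sr_mem_Pos R i
  have hj := H641.Sd.sr_mem_Pos R j
  have hk := H641.Sd.sr_mem_Pos R k
  have e : ∀ {a b : I}, a ≠ b → (sr a : I → ℤ) ≠ sr b := fun h e => h (Cfsg.Agent.Nodes.sr_injective e)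
  let g : ↥(RGD.Sup X (RGD.Pos cs h)) →* ↥(X (sr j)) × ↥(X (sr k)) :=
    (H641.Sd.retr R j).prod (H641.Sd.retr R k)
  have h1 : Rk (1 + 1) (↥(X (sr j)) × ↥(X (sr k))) :=
    rk_add (MonoidHom.fst _ _) (MonoidHom.snd _ _) (fun a b => ⟨(a, b), rfl, rfl⟩) (rk_X R j) (rk_X R k)
  refine rk_add (m := 1) (n := 2) (H641.Sd.retr R i) g ?_ (rk_X R i) h1
  rintro a ⟨b, c⟩
  refine ⟨⟨a, RGD.le_Sup hi a.2⟩ * (⟨b, RGD.le_Sup hj b.2⟩ * ⟨c, RGD.le_Sup hk c.2⟩), ?_, ?_⟩
  · rw [map_mul, map_mul, H641.Sd.retr_self R (u := ⟨a, RGD.le_Sup hi a.2⟩) a.2,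
      H641.Sd.retr_ne R hj (e hij.symm) (u := ⟨b, RGD.le_Sup hj b.2⟩) b.2,
      H641.Sd.retr_ne R hk (e hik.symm) (u := ⟨c, RGD.le_Sup hk c.2⟩) c.2, mul_one, mul_one]
  · apply Prod.ext
    · change H641.Sd.retr R j _ = b
      rw [map_mul, map_mul, H641.Sd.retr_self R (u := ⟨b, RGD.le_Sup hj b.2⟩) b.2,
        H641.Sd.retr_ne R hi (e hij) (u := ⟨a, RGD.le_Sup hi a.2⟩) a.2,
        H641.Sd.retr_ne R hk (e hjk.symm) (u := ⟨c, RGD.le_Sup hk c.2⟩) c.2, one_mul, mul_one]
    · change H641.Sd.retr R k _ = c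
      rw [map_mul, map_mul, H641.Sd.retr_self R (u := ⟨c, RGD.le_Sup hk c.2⟩) c.2,
        H641.Sd.retr_ne R hi (e hik) (u := ⟨a, RGD.le_Sup hi a.2⟩) a.2,
        H641.Sd.retr_ne R hj (e hjk) (u := ⟨b, RGD.le_Sup hj b.2⟩) b.2, one_mul, one_mul]

/-- **`D3` from `Rk 3 U`.** -/
theorem D3_of_U [Finite Y] [Finite W] (hG : GG cs h T X = ⊤) (h3 : Rk 3 (RGD.Sup X (RGD.Pos cs h))) : D3 Y :=
  D3_of_subgroup R.isPGroup_Upos (fun h2 => (Nat.not_even_iff_odd.2 (H967.K4.odd_index_U R hG)) (even_iff_two_dvd.2 h2)) h3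

end rgd

section rows

universe u

variable {S : Type u} [Group S] [Finite S]

/-- **Rank at least three.** -/
theorem D3_of_rgdt {l : ℕ} (hl : 3 ≤ l) {M : CoxeterMatrix (Fin l)} (hS : Omega.ML.Ex.Typ.HasRGDT 2 M S) : D3 S := by
  obtain ⟨A, h, T, n, X, hW, R, hX⟩ := hS
  have : Finite M.Group := hW
  exact D3_of_U R (H967.K4.gg_of_g1 hX) (rk_three R (i := ⟨0, by omega⟩) (j := ⟨1, by omega⟩) (k := ⟨2, by omega⟩)
    (by simp) (by simp) (by simp))

end rows

end Cfsg.Agent.H151.K547
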