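import Cfsg.Agent.H151.K547.D3
import Cfsg.Prelude.Def_KGroupFacts

/-!
# S4547: `D3 (AutExt τ)` from two invariant homomorphisms (helper151)

* `GoodRep τ g U` : `AutExt g = AutExt τ`, `g ≠ 1` of 2-power order, `<g> ∩ Inn S = 1`, `g U = U`;
* `D3_of_rep` : two different nontrivial `g`-invariant homomorphisms `U → C₂` give `D3 (AutExt τ)`;
* `card_le_fix` : `|E| ≤ |C_E(φ)| ^ (2 ^ m)` for an elementary abelian 2-group `E` and `φ ^ (2 ^ m) = 1`;
* `D3_of_rk` : `Rk d U` and `orderOf g < d` give `D3 (AutExt τ)`.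
-/

set_option autoImplicit false
set_option linter.unusedSectionVars false

open Cfsg

namespace Cfsg.Agent.H151.K547

open Cfsg.Agent.H821.K547

universe u

/-- the group of order two -/
abbrev C2 := Multiplicative (ZMod 2)

theorem C2_cases (a : C2) : a = 1 ∨ a = Multiplicative.ofAdd 1 := by
  revert a
  decide

theorem C2_mul_self (a : C2) : a * a = 1 := by
  revert a
  decide

theorem rk_C2 : Rk 2 (C2 × C2) := by
  refine rk_of_elem (fun x y => ?_) (fun x => ?_) ?_
  · exact mul_comm x y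
  · exact Prod.ext (C2_mul_self _) (C2_mul_self _)
  · have h1 : Nat.card C2 = 2 := by
      rw [Nat.card_eq_fintype_card]
      rfl
    rw [Nat.card_prod, h1]
    norm_num

section fixpt

/-- **Fixed points of a 2-automorphism of an elementary abelian 2-group.** -/
theorem card_le_fix_add {E : Type*} [AddCommGroup E] [Finite E] (h2 : ∀ x : E, x + x = 0) (φ : AddMonoid.End E)
    {m : ℕ} (hφ : φ ^ 2 ^ m = 1) : Nat.card E ≤ Nat.card {x : E // φ x = x} ^ 2 ^ m := by
  have hch : CharP (AddMonoid.End E) 2 ∨ Subsingleton E := by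
    rcases subsingleton_or_nontrivial E with h | h
    · exact Or.inr h
    · left
      have h0 : ((2 : ℕ) : AddMonoid.End E) = 0 := by
        ext x
        rw [Nat.cast_ofNat, ← one_add_one_eq_two]
        exact h2 x
      refine CharTwo.of_one_ne_zero_of_two_eq_zero (fun h1 => ?_) (by exact_mod_cast h0)
      obtain ⟨x, hx⟩ := exists_ne (0 : E)
      exact hx (DFunLike.congr_fun h1 x)
  rcases hch with hch | hs
  swap
  · have h1 : Nat.card E ≤ 1 := Finite.card_le_one_iff_subsingleton.2 hs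
    refine h1.trans (Nat.one_le_pow _ _ ?_)
    have : Nonempty {x : E // φ x = x} := ⟨⟨0, map_zero φ⟩⟩
    exact Nat.card_pos
  -- `N = φ - 1` is nilpotent
  set N : AddMonoid.End E := φ - 1 with hN
  have hN0 : N ^ 2 ^ m = 0 := by
    rw [hN, sub_pow_char_pow_of_commute (R := AddMonoid.End E) (p := 2) m (Commute.one_right φ), hφ, one_pow, sub_self]
  have key : ∀ j : ℕ, Nat.card {x : E // (N ^ j) x = 0} ≤ Nat.card {x : E // φ x = x} ^ j := by
    intro j
    induction j with
    | zero =>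
      rw [pow_zero, pow_zero]
      apply le_of_eq
      rw [Nat.card_eq_one_iff_unique]
      exact ⟨⟨fun a b => Subtype.ext ((show (a : E) = 0 from a.2).trans (show (b : E) = 0 from b.2).symm)⟩, ⟨⟨0, rfl⟩⟩⟩
    | succ j ih =>
      -- the map `N ^ j` from the kernel of `N ^ (j + 1)` to the fixed points
      let K : AddSubgroup E := (N ^ (j + 1) : AddMonoid.End E).ker
      have hK : ∀ x, x ∈ K ↔ (N ^ (j + 1)) x = 0 := fun x => Iff.rfl
      let F : AddSubgroup E := (N : AddMonoid.End E).ker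
      have hF : ∀ x, x ∈ F ↔ φ x = x := by
        intro x
        change φ x - x = 0 ↔ _
        rw [sub_eq_zero]
      let f : K →+ F := (AddMonoidHom.comp (N ^ j : AddMonoid.End E) K.subtype).codRestrict F (by
        intro x
        change N ((N ^ j) x) = 0
        have := x.2
        rw [hK, pow_succ'] at this
        exact this)
      have h1 := AddSubgroup.card_eq_card_quotient_mul_card_addSubgroup f.ker
      have h3 : Nat.card (K ⧸ f.ker) ≤ Nat.card F := by
        rw [Nat.card_congr (QuotientAddGroup.quotientKerEquivRange f).toEquiv]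
        exact Nat.card_le_card_of_injective _ (Subtype.val_injective (p := fun x => x ∈ f.range))
      have h4 : Nat.card f.ker ≤ Nat.card {x : E // (N ^ j) x = 0} := by
        refine Nat.card_le_card_of_injective (fun x : f.ker => (⟨((x : K) : E), ?_⟩ : {x : E // (N ^ j) x = 0})) ?_
        · exact congrArg Subtype.val (show f (x : K) = 0 from x.2)
        · intro x y hxy
          exact Subtype.ext (Subtype.ext (congrArg (fun z : {x : E // (N ^ j) x = 0} => (z : E)) hxy))
      have h5 : Nat.card {x : E // (N ^ (j + 1)) x = 0} = Nat.card K := rfl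
      have h6 : Nat.card F = Nat.card {x : E // φ x = x} :=
        Nat.card_congr (Equiv.subtypeEquivRight fun x => hF x)
      rw [h5, h1, pow_succ', ← h6]
      exact Nat.mul_le_mul h3 (h4.trans (by rw [h6]; exact ih))
  have h1 := key (2 ^ m)
  rw [hN0] at h1
  refine le_trans (le_of_eq ?_) h1
  exact Nat.card_congr ⟨fun x => ⟨x, rfl⟩, fun x => x.1, fun _ => rfl, fun _ => rfl⟩

theorem card_le_fix {E : Type*} [CommGroup E] [Finite E] (h2 : ∀ x : E, x * x = 1) (φ : E →* E)
    {m : ℕ} (hφ : ∀ x, φ^[2 ^ m] x = x) : Nat.card E ≤ Nat.card {x : E // φ x = x} ^ 2 ^ m := by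
  let ψ : AddMonoid.End (Additive E) := MonoidHom.toAdditive φ
  have h3 : ∀ (k : ℕ) (x : Additive E), (ψ ^ k) x = Additive.ofMul (φ^[k] (Additive.toMul x)) := by
    intro k
    induction k with
    | zero => intro x; rfl
    | succ k ih =>
      intro x
      rw [pow_succ, Function.iterate_succ_apply]
      change (ψ ^ k) (ψ x) = _
      rw [ih]
      rfl
  have h := card_le_fix_add (E := Additive E) (fun x => h2 (Additive.toMul x)) ψ
    (m := m) (by
      ext x
      rw [h3, hφ]
      rfl)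
  exact h

end fixpt

section rep

variable {S : Type u} [Group S]

/-- the good representative of the class of `τ` -/
structure GoodRep (τ g : MulAut S) (U : Subgroup S) : Prop where
  ext : AutExt g = AutExt τ
  pow : ∃ m : ℕ, g ^ 2 ^ m = 1
  ne : g ≠ 1
  disj : ∀ (k : ℤ) (s : S), g ^ k = MulAut.conj s → g ^ k = 1
  fix : ∀ x, g x ∈ U ↔ x ∈ U

/-- the restriction of `g` to `U` -/
def resU {g : MulAut S} {U : Subgroup S} (hf : ∀ x, g x ∈ U ↔ x ∈ U) : U →* U where
  toFun u := ⟨g u, (hf u).2 u.2⟩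
  map_one' := Subtype.ext (map_one g)
  map_mul' a b := Subtype.ext (map_mul g (a : S) (b : S))

theorem resU_iter {g : MulAut S} {U : Subgroup S} (hf : ∀ x, g x ∈ U ↔ x ∈ U) (n : ℕ) (u : U) :
    (((resU hf)^[n] u : U) : S) = (g ^ n : MulAut S) (u : S) := by
  induction n generalizing u with
  | zero => rfl
  | succ n ih =>
    rw [Function.iterate_succ_apply, ih, pow_succ]
    rfl

theorem fix_zpow {g : MulAut S} {U : Subgroup S} (hf : ∀ x, g x ∈ U ↔ x ∈ U) {k : MulAut S}
    (hk : k ∈ Subgroup.zpowers g) (x : S) : k x ∈ U ↔ x ∈ U := by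
  have key : (Subgroup.zpowers g : Subgroup (MulAut S)) ≤
      { carrier := {k | ∀ x, k x ∈ U ↔ x ∈ U}
        one_mem' := fun _ => Iff.rfl
        mul_mem' := fun {a b} ha hb x => by rw [MulAut.mul_apply, ha, hb]
        inv_mem' := fun {a} ha x => by rw [← ha, MulAut.apply_inv_self] } := by
    rw [Subgroup.zpowers_le]
    exact hf
  exact key hk x

theorem inv_zpow {g : MulAut S} {U : Subgroup S} (hf : ∀ x, g x ∈ U ↔ x ∈ U) {l : U →* C2}
    (hl : l.comp (resU hf) = l) {k : MulAut S} (hk : k ∈ Subgroup.zpowers g) (u v : U) (huv : (v : S) = k (u : S)) :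
    l v = l u := by
  have key : (Subgroup.zpowers g : Subgroup (MulAut S)) ≤
      { carrier := {k | (∀ x, k x ∈ U ↔ x ∈ U) ∧ ∀ u v : U, (v : S) = k (u : S) → l v = l u}
        one_mem' := ⟨fun _ => Iff.rfl, fun u v h => by rw [Subtype.ext (a1 := v) (a2 := u) h]⟩
        mul_mem' := fun {a b} ha hb => ⟨fun x => by rw [MulAut.mul_apply, ha.1, hb.1], fun u v h => by
          have h1 : b u ∈ U := (hb.1 u).2 u.2
          rw [ha.2 ⟨b u, h1⟩ v h, hb.2 u ⟨b u, h1⟩ rfl]⟩
        inv_mem' := fun {a} ha => ⟨fun x => by rw [← ha.1, MulAut.apply_inv_self], fun u v h => by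
          refine (ha.2 v u ?_).symm
          rw [h, MulAut.apply_inv_self]⟩ } := by
    rw [Subgroup.zpowers_le]
    refine ⟨hf, fun u v h => ?_⟩
    have h1 : v = resU hf u := Subtype.ext h
    rw [h1]
    exact DFunLike.congr_fun hl u
  exact (key hk).2 u v huv

variable {g : MulAut S} {U : Subgroup S}

/-- the subgroup `U ⋊ <g>` -/
def semiU (hf : ∀ x, g x ∈ U ↔ x ∈ U) : Subgroup (S ⋊[(Subgroup.zpowers g).subtype] ↥(Subgroup.zpowers g)) where
  carrier := {x | x.left ∈ U}
  one_mem' := U.one_mem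
  mul_mem' {a b} ha hb := by
    change (a * b).left ∈ U
    rw [SemidirectProduct.mul_left]
    exact U.mul_mem ha ((fix_zpow hf a.right.2 _).2 hb)
  inv_mem' {a} ha := by
    change (a⁻¹).left ∈ U
    rw [SemidirectProduct.inv_left]
    exact (fix_zpow hf (a.right⁻¹).2 _).2 (U.inv_mem ha)

theorem mem_semiU {hf : ∀ x, g x ∈ U ↔ x ∈ U} {x : S ⋊[(Subgroup.zpowers g).subtype] ↥(Subgroup.zpowers g)} :
    x ∈ semiU hf ↔ x.left ∈ U := Iff.rfl

/-- `U ⋊ <g>` is in bijection with `U × <g>` -/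
def semiEquiv (hf : ∀ x, g x ∈ U ↔ x ∈ U) : semiU hf ≃ U × ↥(Subgroup.zpowers g) where
  toFun x := (⟨x.1.left, x.2⟩, x.1.right)
  invFun y := ⟨⟨y.1, y.2⟩, y.1.2⟩
  left_inv _ := rfl
  right_inv _ := rfl

/-- the homomorphism of `U ⋊ <g>` given by an invariant homomorphism of `U` -/
def liftHom (hf : ∀ x, g x ∈ U ↔ x ∈ U) {l : U →* C2} (hl : l.comp (resU hf) = l) : semiU hf →* C2 where
  toFun x := l ⟨x.1.left, x.2⟩
  map_one' := map_one l
  map_mul' x y := by
    have h1 : ((Subgroup.zpowers g).subtype x.1.right) y.1.left ∈ U := (fix_zpow hf x.1.right.2 _).2 y.2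
    have h2 : (⟨(x * y).1.left, (x * y).2⟩ : U) =
        ⟨x.1.left, x.2⟩ * ⟨((Subgroup.zpowers g).subtype x.1.right) y.1.left, h1⟩ :=
      Subtype.ext (SemidirectProduct.mul_left x.1 y.1)
    rw [h2, map_mul]
    congr 1
    exact inv_zpow hf hl x.1.right.2 ⟨y.1.left, y.2⟩ _ rfl

/-- two different nontrivial homomorphisms to `C₂` are independent -/
theorem exists_pair {P : Type*} [Group P] {l l' : P →* C2} (h : l ≠ 1) (h' : l' ≠ 1) (hne : l ≠ l') (a b : C2) :
    ∃ u, l u = a ∧ l' u = b := by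
  have hex : ∀ {m : P →* C2}, m ≠ 1 → ∃ u, m u = Multiplicative.ofAdd 1 := by
    intro m hm
    by_contra hcon
    push Not at hcon
    apply hm
    ext u
    rcases C2_cases (m u) with h1 | h1
    · rw [h1]; rfl
    · exact absurd h1 (hcon u)
  obtain ⟨u, hu⟩ := hex h
  obtain ⟨v, hv⟩ := hex h'
  obtain ⟨w, hw⟩ : ∃ w, l w ≠ l' w := by
    by_contra hcon
    push Not at hcon
    exact hne (MonoidHom.ext hcon)
  have hc2 : (Multiplicative.ofAdd 1 : C2) * Multiplicative.ofAdd 1 = 1 := C2_mul_self _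
  have hne1 : (1 : C2) ≠ Multiplicative.ofAdd 1 := by decide
  -- the two unit vectors
  have h10 : ∃ x, l x = Multiplicative.ofAdd 1 ∧ l' x = 1 := by
    rcases C2_cases (l w) with h1 | h1 <;> rcases C2_cases (l' w) with h2 | h2
    · exact absurd (h1.trans h2.symm) hw
    · rcases C2_cases (l' u) with h3 | h3
      · exact ⟨u, hu, h3⟩
      · exact ⟨u * w, by rw [map_mul, hu, h1, mul_one], by rw [map_mul, h3, h2, hc2]⟩
    · exact ⟨w, h1, h2⟩
    · exact absurd (h1.trans h2.symm) hw
  have h01 : ∃ x, l x = 1 ∧ l' x = Multiplicative.ofAdd 1 := by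
    rcases C2_cases (l w) with h1 | h1 <;> rcases C2_cases (l' w) with h2 | h2
    · exact absurd (h1.trans h2.symm) hw
    · exact ⟨w, h1, h2⟩
    · rcases C2_cases (l v) with h3 | h3
      · exact ⟨v, h3, hv⟩
      · exact ⟨v * w, by rw [map_mul, h3, h1, hc2], by rw [map_mul, hv, h2, mul_one]⟩
    · exact absurd (h1.trans h2.symm) hw
  obtain ⟨x, hx, hx'⟩ := h10
  obtain ⟨y, hy, hy'⟩ := h01
  rcases C2_cases a with rfl | rfl <;> rcases C2_cases b with rfl | rfl
  · exact ⟨1, map_one _, map_one _⟩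
  · exact ⟨y, hy, hy'⟩
  · exact ⟨x, hx, hx'⟩
  · exact ⟨x * y, by rw [map_mul, hx, hy, mul_one], by rw [map_mul, hx', hy', one_mul]⟩

theorem isPGroup_zpowers {m : ℕ} (hg : g ^ 2 ^ m = 1) : IsPGroup 2 ↥(Subgroup.zpowers g) := by
  have h1 : orderOf g ∣ 2 ^ m := orderOf_dvd_of_pow_eq_one hg
  obtain ⟨k, -, hk⟩ := (Nat.dvd_prime_pow Nat.prime_two).1 h1
  refine IsPGroup.of_card (n := k) ?_
  rw [Nat.card_zpowers, hk]

/-- `D3` of the semidirect product -/
theorem D3_semi [Finite S] {m : ℕ} (hg : g ^ 2 ^ m = 1) (hg1 : g ≠ 1) (hf : ∀ x, g x ∈ U ↔ x ∈ U)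
    (hU : IsPGroup 2 U) (hi : ¬ 2 ∣ U.index) {l l' : U →* C2} (h : l ≠ 1) (h' : l' ≠ 1) (hne : l ≠ l')
    (hl : l.comp (resU hf) = l) (hl' : l'.comp (resU hf) = l') :
    D3 (S ⋊[(Subgroup.zpowers g).subtype] ↥(Subgroup.zpowers g)) := by
  have : Fact (Nat.Prime 2) := ⟨Nat.prime_two⟩
  have hfin : Finite (MulAut S) := inferInstance
  have hZ := isPGroup_zpowers hg
  have hFin : Finite (S ⋊[(Subgroup.zpowers g).subtype] ↥(Subgroup.zpowers g)) :=
    Finite.of_equiv _ (SemidirectProduct.equivProd).symm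
  have hcard : Nat.card ↥(semiU hf) = Nat.card U * Nat.card ↥(Subgroup.zpowers g) := by
    rw [Nat.card_congr (semiEquiv hf), Nat.card_prod]
  have hcardS : Nat.card (S ⋊[(Subgroup.zpowers g).subtype] ↥(Subgroup.zpowers g)) =
      Nat.card S * Nat.card ↥(Subgroup.zpowers g) := by
    rw [Nat.card_congr SemidirectProduct.equivProd, Nat.card_prod]
  refine D3_of_subgroup (U := semiU hf) ?_ ?_ ?_
  · obtain ⟨a, ha⟩ := IsPGroup.iff_card.1 hU
    obtain ⟨b, hb⟩ := IsPGroup.iff_card.1 hZ
    refine IsPGroup.of_card (n := a + b) ?_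
    rw [hcard, ha, hb, pow_add]
  · have h1 := (semiU hf).card_mul_index
    rw [hcard, hcardS, ← U.card_mul_index] at h1
    have h2 : 0 < Nat.card U * Nat.card ↥(Subgroup.zpowers g) := Nat.mul_pos Nat.card_pos Nat.card_pos
    have h3 : (semiU hf).index = U.index := by
      apply Nat.eq_of_mul_eq_mul_left h2
      rw [h1]
      ring
    rwa [h3]
  · have hr2 : Rk 2 (C2 × C2) := rk_C2
    have hr1 : Rk 1 ↥(Subgroup.zpowers g) := rk_one hZ (by
      rw [Subgroup.nontrivial_iff_ne_bot, Ne, Subgroup.zpowers_eq_bot]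
      exact hg1)
    refine rk_add (m := 2) (n := 1) ((liftHom hf hl).prod (liftHom hf hl'))
      ((SemidirectProduct.rightHom).comp (semiU hf).subtype) ?_ hr2 hr1
    rintro ⟨a, b⟩ r
    obtain ⟨u, hu, hu'⟩ := exists_pair h h' hne a b
    exact ⟨⟨⟨u, r⟩, u.2⟩, Prod.ext hu hu', rfl⟩

end rep

section ext

variable {S : Type u} [Group S]

/-- `AutExt g` is the semidirect product -/
theorem nonempty_semi {τ g : MulAut S} {U : Subgroup S} (hZ : Subgroup.center S = ⊥) (G : GoodRep τ g U) :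
    Nonempty (↥(AutExt τ) ≃* S ⋊[(Subgroup.zpowers g).subtype] ↥(Subgroup.zpowers g)) := by
  have hcj : ∀ s : S, MulAut.conj s = 1 → s = 1 := by
    intro s hs
    have h1 : s ∈ Subgroup.center S := by
      rw [Subgroup.mem_center_iff]
      intro x
      have h2 := DFunLike.congr_fun hs x
      rw [MulAut.conj_apply, MulAut.one_apply] at h2
      exact (mul_inv_eq_iff_eq_mul.1 h2).symm
    rwa [hZ, Subgroup.mem_bot] at h1
  let F : S ⋊[(Subgroup.zpowers g).subtype] ↥(Subgroup.zpowers g) →* MulAut S :=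
    SemidirectProduct.lift (MulAut.conj : S →* MulAut S) (Subgroup.zpowers g).subtype (by
      intro k
      ext s x
      change ((k : MulAut S) s) * x * ((k : MulAut S) s)⁻¹ = (k : MulAut S) (s * ((k : MulAut S)⁻¹ x) * s⁻¹)
      rw [map_mul, map_mul, map_inv, MulAut.apply_inv_self])
  have hF : ∀ x, F x = MulAut.conj x.left * (x.right : MulAut S) := fun x => rfl
  have hinj : Function.Injective F := by
    rw [injective_iff_map_eq_one]
    intro x hx
    rw [hF] at hx
    obtain ⟨k, hk⟩ := Subgroup.mem_zpowers_iff.1 (x.right⁻¹).2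
    have h1 : g ^ k = MulAut.conj x.left := by
      rw [hk]
      exact (mul_eq_one_iff_eq_inv.1 hx).symm
    have h2 := G.disj k x.left h1
    have h3 : x.left = 1 := hcj _ (h1.symm.trans h2)
    have h4 : x.right = 1 := by
      rw [← inv_eq_one]
      apply Subtype.ext
      rw [← hk, h2]
      rfl
    exact SemidirectProduct.ext h3 h4
  have hrange : F.range = AutExt τ := by
    rw [← G.ext]
    apply le_antisymm
    · rintro _ ⟨x, rfl⟩
      rw [hF]
      exact mul_mem (Subgroup.mem_sup_left ⟨x.left, rfl⟩) (Subgroup.mem_sup_right x.right.2)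
    · rw [AutExt, sup_le_iff]
      constructor
      · rintro _ ⟨s, rfl⟩
        refine ⟨SemidirectProduct.inl s, ?_⟩
        rw [hF, SemidirectProduct.left_inl, SemidirectProduct.right_inl]
        exact mul_one _
      · rw [Subgroup.zpowers_le]
        refine ⟨SemidirectProduct.inr ⟨g, Subgroup.mem_zpowers g⟩, ?_⟩
        rw [hF, SemidirectProduct.left_inr, SemidirectProduct.right_inr, map_one, one_mul]
  exact ⟨((MonoidHom.ofInjective hinj).trans (MulEquiv.subgroupCongr hrange)).symm⟩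

/-- **`D3 (AutExt τ)` from two invariant homomorphisms.** -/
theorem D3_of_rep [Finite S] {τ g : MulAut S} {U : Subgroup S} (hZ : Subgroup.center S = ⊥) (G : GoodRep τ g U)
    (hU : IsPGroup 2 U) (hi : ¬ 2 ∣ U.index) {l l' : U →* C2} (h : l ≠ 1) (h' : l' ≠ 1) (hne : l ≠ l')
    (hl : l.comp (resU G.fix) = l) (hl' : l'.comp (resU G.fix) = l') : D3 (AutExt τ) := by
  obtain ⟨e⟩ := nonempty_semi hZ G
  obtain ⟨m, hm⟩ := G.pow
  have hfin : Finite (MulAut S) := inferInstance
  exact D3_congr e (D3_semi hm G.ne G.fix hU hi h h' hne hl hl')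

/-- the action on the homomorphisms -/
def actHom {g : MulAut S} {U : Subgroup S} (hf : ∀ x, g x ∈ U ↔ x ∈ U) : (U →* C2) →* (U →* C2) where
  toFun l := l.comp (resU hf)
  map_one' := rfl
  map_mul' _ _ := rfl

theorem actHom_iter {g : MulAut S} {U : Subgroup S} (hf : ∀ x, g x ∈ U ↔ x ∈ U) (n : ℕ) (l : U →* C2) (u : U) :
    ((actHom hf)^[n] l) u = l ((resU hf)^[n] u) := by
  induction n generalizing l with
  | zero => rfl
  | succ n ih =>
    rw [Function.iterate_succ_apply, ih, Function.iterate_succ_apply']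
    rfl

/-- invariant elements of a stable group of homomorphisms -/
theorem card_hom_le [Finite S] {g : MulAut S} {U : Subgroup S} (hf : ∀ x, g x ∈ U ↔ x ∈ U) {m : ℕ}
    (hg : g ^ 2 ^ m = 1) (E : Subgroup (U →* C2)) (hE : ∀ l ∈ E, l.comp (resU hf) ∈ E) :
    Nat.card E ≤ Nat.card {l : U →* C2 // l ∈ E ∧ l.comp (resU hf) = l} ^ 2 ^ m := by
  have hfin : Finite (U →* C2) := DFunLike.finite _
  let φ : E →* E := ((actHom hf).comp E.subtype).codRestrict E (fun x => hE x x.2)
  have hval : ∀ (n : ℕ) (x : E), ((φ^[n] x : E) : U →* C2) = (actHom hf)^[n] x := by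
    intro n
    induction n with
    | zero => intro x; rfl
    | succ n ih => intro x; rw [Function.iterate_succ_apply, ih, Function.iterate_succ_apply]; rfl
  have h1 := card_le_fix (E := E) (fun x => by
      apply Subtype.ext
      ext u
      exact C2_mul_self _) φ (m := m) (fun x => by
      apply Subtype.ext
      rw [hval]
      ext u
      rw [actHom_iter]
      congr 2
      apply Subtype.ext
      rw [resU_iter, hg]
      rfl)
  refine h1.trans (Nat.pow_le_pow_left (le_of_eq ?_) _)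
  exact Nat.card_congr
    { toFun := fun x => ⟨x.1, x.1.2, congrArg Subtype.val x.2⟩
      invFun := fun y => ⟨⟨y.1, y.2.1⟩, Subtype.ext y.2.2⟩
      left_inv := fun _ => rfl
      right_inv := fun _ => rfl }

/-- a nontrivial invariant homomorphism in a nontrivial stable group of homomorphisms -/
theorem exists_inv [Finite S] {g : MulAut S} {U : Subgroup S} (hf : ∀ x, g x ∈ U ↔ x ∈ U) {m : ℕ}
    (hg : g ^ 2 ^ m = 1) (E : Subgroup (U →* C2)) (hE : ∀ l ∈ E, l.comp (resU hf) ∈ E) (hn : E ≠ ⊥) :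
    ∃ l ∈ E, l ≠ 1 ∧ l.comp (resU hf) = l := by
  have hfin : Finite (U →* C2) := DFunLike.finite _
  by_contra hcon
  push Not at hcon
  have h1 := card_hom_le hf hg E hE
  have h2 : Nat.card {l : U →* C2 // l ∈ E ∧ l.comp (resU hf) = l} = 1 := by
    rw [Nat.card_eq_one_iff_unique]
    refine ⟨⟨fun a b => ?_⟩, ⟨⟨1, E.one_mem, rfl⟩⟩⟩
    have ha : (a : U →* C2) = 1 := by
      by_contra h3
      exact hcon a a.2.1 h3 a.2.2
    have hb : (b : U →* C2) = 1 := by
      by_contra h3
      exact hcon b b.2.1 h3 b.2.2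
    exact Subtype.ext (ha.trans hb.symm)
  rw [h2, one_pow] at h1
  exact hn (Subgroup.eq_bot_of_card_le E h1)

/-- the number of homomorphisms to `C₂` -/
theorem card_hom_of_rk {P : Type*} [Group P] [Finite P] {d : ℕ} (h : Rk d P) : 2 ^ d ≤ Nat.card (P →* C2) := by
  have hfin : Finite (P →* C2) := DFunLike.finite _
  obtain ⟨f, hf⟩ := h
  have h1 : Nat.card (Fin d → ZMod 2) = 2 ^ d := by
    rw [Nat.card_eq_fintype_card, Fintype.card_fun, ZMod.card, Fintype.card_fin]
  rw [← h1]
  refine Nat.card_le_card_of_injective (fun c : Fin d → ZMod 2 =>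
    (MonoidHom.mk' (fun x : P => Multiplicative.ofAdd (∑ i, c i * Multiplicative.toAdd (f x) i)) (by
      intro x y
      rw [← ofAdd_add, ← Finset.sum_add_distrib]
      congr 1
      refine Finset.sum_congr rfl fun i _ => ?_
      rw [map_mul, ← mul_add]
      rfl) : P →* C2)) ?_
  intro c c' hcc
  funext i
  obtain ⟨x, hx⟩ := hf (Multiplicative.ofAdd (Pi.single i 1))
  have h2 := congrArg Multiplicative.toAdd (DFunLike.congr_fun hcc x)
  change ∑ j, c j * Multiplicative.toAdd (f x) j = ∑ j, c' j * Multiplicative.toAdd (f x) j at h2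
  rw [hx] at h2
  simpa [Pi.single_apply] using h2

/-- **`D3 (AutExt τ)` by counting.** -/
theorem D3_of_rk [Finite S] {τ g : MulAut S} {U : Subgroup S} (hZ : Subgroup.center S = ⊥) (G : GoodRep τ g U)
    (hU : IsPGroup 2 U) (hi : ¬ 2 ∣ U.index) {d : ℕ} (hd : Rk d U) (hlt : orderOf g < d) : D3 (AutExt τ) := by
  have hfin : Finite (U →* C2) := DFunLike.finite _
  obtain ⟨m, hm, hgm⟩ : ∃ m : ℕ, g ^ 2 ^ m = 1 ∧ 2 ^ m < d := by
    obtain ⟨m, hm⟩ := G.pow
    obtain ⟨k, -, hk⟩ := (Nat.dvd_prime_pow Nat.prime_two).1 (orderOf_dvd_of_pow_eq_one hm)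
    exact ⟨k, by rw [← hk]; exact pow_orderOf_eq_one g, by rw [← hk]; exact hlt⟩
  have h1 := card_hom_le G.fix hm ⊤ (fun _ _ => Subgroup.mem_top _)
  have h2 : 2 ^ d ≤ Nat.card (⊤ : Subgroup (U →* C2)) := by
    rw [Subgroup.card_top]
    exact card_hom_of_rk hd
  have h3 : 2 < Nat.card {l : U →* C2 // l ∈ (⊤ : Subgroup (U →* C2)) ∧ l.comp (resU G.fix) = l} := by
    by_contra hcon
    push Not at hcon
    have h4 : 2 ^ d ≤ 2 ^ 2 ^ m := (h2.trans h1).trans (Nat.pow_le_pow_left hcon _)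
    have h5 := (Nat.pow_le_pow_iff_right (a := 2) (by norm_num)).1 h4
    omega
  -- three different elements
  by_contra hD
  have h6 : ∀ a b : {l : U →* C2 // l ∈ (⊤ : Subgroup (U →* C2)) ∧ l.comp (resU G.fix) = l},
      (a : U →* C2) ≠ 1 → (b : U →* C2) ≠ 1 → a = b := by
    intro a b ha hb
    by_contra hab
    exact hD (D3_of_rep hZ G hU hi ha hb (fun e => hab (Subtype.ext e)) a.2.2 b.2.2)
  have hf3 : Fintype {l : U →* C2 // l ∈ (⊤ : Subgroup (U →* C2)) ∧ l.comp (resU G.fix) = l} := Fintype.ofFinite _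
  rw [Nat.card_eq_fintype_card, Fintype.two_lt_card_iff] at h3
  obtain ⟨a, b, c, hab, hac, hbc⟩ := h3
  by_cases ha : (a : U →* C2) = 1
  · have hb : (b : U →* C2) ≠ 1 := fun e => hab (Subtype.ext (ha.trans e.symm))
    have hc : (c : U →* C2) ≠ 1 := fun e => hac (Subtype.ext (ha.trans e.symm))
    exact hbc (h6 b c hb hc)
  · by_cases hb : (b : U →* C2) = 1
    · have hc : (c : U →* C2) ≠ 1 := fun e => hbc (Subtype.ext (hb.trans e.symm))
      exact hac (h6 a c ha hc)
    · exact hab (h6 a b ha hb)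

end ext

end Cfsg.Agent.H151.K547
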